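import Groth.Agent.L21.Mod.Stalks
import Groth.Agent.L16.CohSupport
import Groth.Agent.L16.CohClosedPush
import Mathlib.RingTheory.Spectrum.Prime.Noetherian
import Groth.Prelude.Def_ShStab

/-!
Sections of pure one-dimensional modules on reduced curves are killed by functions vanishing on the support.
-/

set_option autoImplicit false
set_option linter.style.haveILetI false
set_option linter.unusedSectionVars false
set_option backward.isDefEq.respectTransparency false

universe u

open CategoryTheory CategoryTheory.Limits AlgebraicGeometry TopologicalSpace Opposite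

noncomputable section

namespace Groth.L15.PureKill

variable {X : Scheme.{u}}

/-- The hom `O ⟶ M`, `r ↦ r • s`. -/
def homOfSection (M : X.Modules) (s : Γ(M, ⊤)) : Coh.structureModule X ⟶ M :=
  M.unitHomEquiv.symm (PresheafOfModules.sectionsMk
    (fun V => M.presheaf.map (homOfLE (le_top : V.unop ≤ ⊤)).op s)
    (fun V W f => by
      change (M.presheaf.map _ ≫ M.presheaf.map f) s = _
      rw [← Functor.map_comp]; rfl))

theorem homOfSection_app (M : X.Modules) (s : Γ(M, ⊤)) (V : X.Opens) (r : Γ(X, V)) :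
    (homOfSection M s).app V r = r • M.presheaf.map (homOfLE (le_top : V ≤ ⊤)).op s := rfl

theorem germ_ext {M : X.Modules} {U : X.Opens} {a b : Γ(M, U)}
    (hab : ∀ (x : X) (hx : x ∈ U), M.presheaf.germ U x hx a = M.presheaf.germ U x hx b) : a = b :=
  TopCat.Presheaf.section_ext ((Groth.L21.Mod.toAbSh X).obj M) U a b hab

theorem finite_support [IsNoetherian X] {M : X.Modules} {U : X.Opens} (s : Γ(M, U))
    (h : ∀ (x : X) (hx : x ∈ U), M.presheaf.germ U x hx s ≠ 0 → IsClosed ({x} : Set X)) :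
    {p : U | M.presheaf.germ U p.1 p.2 s ≠ 0}.Finite := by
  have hF : IsClosed {p : U | M.presheaf.germ U p.1 p.2 s ≠ 0} := by
    rw [← isOpen_compl_iff, isOpen_iff_forall_mem_open]
    intro p hp
    simp only [Set.mem_compl_iff, Set.mem_setOf_eq, not_not] at hp
    obtain ⟨W, hW, i₁, i₂, heq⟩ := TopCat.Presheaf.germ_eq M.presheaf p.1 p.2 p.2 s 0
      (hp.trans (map_zero _).symm)
    rw [map_zero] at heq
    refine ⟨Subtype.val ⁻¹' (W : Set X), fun q hq => ?_, W.isOpen.preimage continuous_subtype_val, hW⟩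
    simp only [Set.mem_compl_iff, Set.mem_setOf_eq, not_not]
    rw [← TopCat.Presheaf.germ_res_apply M.presheaf i₁ q.1 hq, heq, map_zero]
  haveI hU : NoetherianSpace (↥U) := (inferInstance : NoetherianSpace X).set (U : Set X)
  have hQ : QuasiSober (↥U) := U.isOpenEmbedding'.quasiSober
  obtain ⟨S, hSf, hSc, hSi, hS⟩ := @NoetherianSpace.exists_finite_set_isClosed_irreducible _ _ hU _ hF
  rw [hS]
  refine hSf.sUnion fun t ht => ?_
  obtain ⟨η, hη⟩ := @QuasiSober.sober _ _ hQ _ (hSi t ht) (hSc t ht)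
  have hmem : η ∈ {p : U | M.presheaf.germ U p.1 p.2 s ≠ 0} := hS ▸ ⟨t, ht, hη.mem⟩
  refine (Set.finite_singleton η).subset fun y hy => Subtype.ext ?_
  exact (((hη.specializes hy).map continuous_subtype_val).mem_closed (h η.1 η.2 hmem) rfl)

theorem isField_stalk [IsReduced X] (z : X) (hmax : ∀ y : X, y ⤳ z → y = z) : IsField (X.presheaf.stalk z) := by
  haveI : Subsingleton (PrimeSpectrum (X.presheaf.stalk z)) := ⟨fun a b => by
    have hr : ∀ c : Spec (X.presheaf.stalk z), X.fromSpecStalk z c = z := fun c => by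
      refine hmax _ ?_
      have := Set.mem_range_self (f := X.fromSpecStalk z) c
      rwa [Scheme.range_fromSpecStalk] at this
    exact (X.fromSpecStalk z).isEmbedding.injective ((hr a).trans (hr b).symm)⟩
  exact PrimeSpectrum.subsingleton_iff_isField_of_isReduced.1 inferInstance

theorem no_chain {Z : Set X} (hd : topologicalKrullDim Z = 1) {a b c : X} (ha : a ∈ Z) (hb : b ∈ Z) (hc : c ∈ Z)
    (hab : a ⤳ b) (hne : a ≠ b) (hbc : b ⤳ c) (hne' : b ≠ c) : False := by
  have hmk : ∀ {p q : Z}, p.1 ⤳ q.1 → p.1 ≠ q.1 →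
      (⟨closure {q}, isIrreducible_singleton.closure, isClosed_closure⟩ : IrreducibleCloseds Z) <
        ⟨closure {p}, isIrreducible_singleton.closure, isClosed_closure⟩ := by
    intro p q h hne
    have h' : p ⤳ q := subtype_specializes_iff _ _ |>.2 h
    refine lt_of_le_of_ne (closure_minimal (Set.singleton_subset_iff.2 h'.mem_closure) isClosed_closure) fun e => hne ?_
    have e' : closure ({q} : Set Z) = closure {p} := congrArg (fun s : IrreducibleCloseds Z => (s : Set Z)) e
    have h'' : q ⤳ p := specializes_iff_mem_closure.2 (e' ▸ subset_closure rfl)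
    exact (h.antisymm ((subtype_specializes_iff _ _).1 h'')).eq
  let l : LTSeries (IrreducibleCloseds Z) :=
    ((RelSeries.singleton (α := IrreducibleCloseds Z) {(p, q) : IrreducibleCloseds Z × IrreducibleCloseds Z | p < q}
      ⟨closure {⟨c, hc⟩}, isIrreducible_singleton.closure, isClosed_closure⟩).snoc
      ⟨closure {⟨b, hb⟩}, isIrreducible_singleton.closure, isClosed_closure⟩ (by simpa using hmk (p := ⟨b, hb⟩) (q := ⟨c, hc⟩) hbc hne')).snoc
      ⟨closure {⟨a, ha⟩}, isIrreducible_singleton.closure, isClosed_closure⟩ (by simpa using hmk (p := ⟨a, ha⟩) (q := ⟨b, hb⟩) hab hne)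
  have := Order.LTSeries.length_le_krullDim l
  rw [show Order.krullDim (IrreducibleCloseds Z) = topologicalKrullDim Z from rfl, hd] at this
  simp [l] at this

theorem maximal_of_not_closed (hequi : ∀ Z ∈ irreducibleComponents (X : Type u), topologicalKrullDim Z = 1)
    {x : X} (hx : ¬ IsClosed ({x} : Set X)) (z : X) (hz : z ⤳ x) : z = x := by
  by_contra hne
  obtain ⟨y, hy, hyx⟩ : ∃ y ∈ closure ({x} : Set X), y ≠ x := by
    by_contra h
    push Not at h
    exact hx (closure_subset_iff_isClosed.1 fun w hw => h w hw)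
  obtain ⟨Z, hZ, hzZ⟩ : ∃ Z ∈ irreducibleComponents (X : Type u), closure ({z} : Set X) ⊆ Z :=
    exists_mem_irreducibleComponents_subset_of_isIrreducible _ isIrreducible_singleton.closure
  have hxy : x ⤳ y := specializes_iff_mem_closure.2 hy
  exact no_chain (hequi Z hZ) (hzZ (subset_closure rfl)) (hzZ hz.mem_closure) (hzZ (hz.trans hxy).mem_closure)
    hz hne hxy hyx.symm

/-- A global section supported at one closed point vanishes in a pure one-dimensional module. -/
theorem section_eq_zero [IsLocallyNoetherian X] [CompactSpace X] {J : X.Modules} (hJc : Coh.IsCoh J)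
    (hJp : ShStab.IsPure X J 1) (x : X) (w : Γ(J, ⊤))
    (hw : ∀ y, y ≠ x → J.presheaf.germ ⊤ y trivial w = 0) : J.presheaf.germ ⊤ x trivial w = 0 := by
  haveI : IsNoetherian X := { }
  haveI : Coh.IsQCoh J := hJc.1
  let φ := homOfSection J w
  let F := Abelian.image φ
  let ι : F ⟶ J := Abelian.image.ι φ
  let π := Abelian.factorThruImage φ
  have hπ : π ≫ ι = φ := Abelian.image.fac φ
  have hF : Coh.IsCoh F :=
    Groth.L16.CohSupport.isCoh_image (Groth.L16.CohClosedPush.isCoh_structure (X := X)) φ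
  have hsub : CohB1.support F ⊆ {x} := by
    intro y hy
    by_contra hne
    refine hy ⟨fun v v' => (Groth.L21.Mod.mono_iff_stalk_injective ι).1 inferInstance y ?_⟩
    suffices h : ∀ v : F.presheaf.stalk y, (Groth.L21.Mod.stalkF X y).map ι v = 0 by exact (h v).trans (h v').symm
    intro v
    obtain ⟨a, rfl⟩ := (Groth.L21.Mod.epi_iff_stalk_surjective π).1 inferInstance y v
    obtain ⟨V, hV, r, rfl⟩ := TopCat.Presheaf.exists_germ_eq (Coh.structureModule X).presheaf a
    have e : (Groth.L21.Mod.stalkF X y).map ι ((Groth.L21.Mod.stalkF X y).map π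
        ((Coh.structureModule X).presheaf.germ V y hV r)) = J.presheaf.germ V y hV (φ.app V r) := by
      refine Eq.trans ?_ (Groth.L21.Mod.stalkF_map_germ φ V y hV r)
      have h2 : (Groth.L21.Mod.stalkF X y).map φ =
          (Groth.L21.Mod.stalkF X y).map π ≫ (Groth.L21.Mod.stalkF X y).map ι := by
        rw [← Functor.map_comp, hπ]
      rw [h2]
      rfl
    refine e.trans ?_
    rw [homOfSection_app, Groth.L20.ModStalk.germ_smul J hV]
    rw [show J.presheaf.germ V y hV (J.presheaf.map (homOfLE (le_top : V ≤ ⊤)).op w) = 0 from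
      (TopCat.Presheaf.germ_res_apply J.presheaf _ y hV w).trans (hw y hne), smul_zero]
  by_contra hne0
  have hnz : ¬ IsZero F := by
    intro h0
    have hφ : φ = 0 := by rw [← hπ, h0.eq_of_tgt π 0, Limits.zero_comp]
    apply hne0
    have h1 : φ.app ⊤ (1 : Γ(X, ⊤)) = 0 := by rw [hφ]; rfl
    rw [homOfSection_app, one_smul] at h1
    rw [← TopCat.Presheaf.germ_res_apply J.presheaf (homOfLE (le_top : (⊤ : X.Opens) ≤ ⊤)) x trivial w]
    exact (congrArg _ h1).trans (map_zero _)
  have hdim := hJp F ι inferInstance hF hnz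
  haveI : Subsingleton (CohB1.support F) := (Set.subsingleton_singleton.anti hsub).coe_sort
  have hle : topologicalKrullDim (CohB1.support F) ≤ 0 := by
    haveI : Subsingleton (IrreducibleCloseds (CohB1.support F)) := ⟨fun a b => IrreducibleCloseds.ext (by
      rw [Set.Nonempty.eq_univ a.isIrreducible.nonempty, Set.Nonempty.eq_univ b.isIrreducible.nonempty])⟩
    exact Order.krullDim_nonpos_of_subsingleton
  rw [hdim] at hle
  exact absurd (hle : ((1 : ℕ) : WithBot ℕ∞) ≤ ((0 : ℕ) : WithBot ℕ∞)) (by norm_cast)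

theorem germ_smul_eq_zero [IsLocallyNoetherian X] [CompactSpace X] [IsReduced X]
    (hequi : ∀ Z ∈ irreducibleComponents (X : Type u), topologicalKrullDim Z = 1)
    {J : X.Modules} (hJc : Coh.IsCoh J) (hJp : ShStab.IsPure X J 1)
    (U : X.Opens) (f : Γ(X, U)) (hf : ∀ x : X, x ∈ U → x ∈ CohB1.support J → x ∉ X.basicOpen f)
    (x : X) (hx : x ∈ U) (t : J.presheaf.stalk x) : (X.presheaf.germ U x hx f) • t = 0 := by
  haveI : IsNoetherian X := { }
  obtain ⟨V₀, hxV₀, s, rfl⟩ := TopCat.Presheaf.exists_germ_eq J.presheaf t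
  let V : X.Opens := V₀ ⊓ U
  let r : Γ(J, V) := X.presheaf.map (homOfLE (inf_le_right : V ≤ U)).op f •
    J.presheaf.map (homOfLE (inf_le_left : V ≤ V₀)).op s
  have hr : ∀ (y : X) (hy : y ∈ V), J.presheaf.germ V y hy r =
      X.presheaf.germ U y hy.2 f • J.presheaf.germ V₀ y hy.1 s := fun y hy => by
    rw [Groth.L20.ModStalk.germ_smul J hy, TopCat.Presheaf.germ_res_apply, TopCat.Presheaf.germ_res_apply]
  have hclosed : ∀ (y : X) (hy : y ∈ V), J.presheaf.germ V y hy r ≠ 0 → IsClosed ({y} : Set X) := by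
    intro y hy hne
    by_contra hc
    apply hne
    rw [hr]
    by_cases hs : y ∈ CohB1.support J
    · have hF : IsField (X.presheaf.stalk y) :=
        isField_stalk y (maximal_of_not_closed hequi hc)
      have hnu : ¬ IsUnit (X.presheaf.germ U y hy.2 f) := fun h => hf y hy.2 hs
        ((Scheme.mem_basicOpen X f y hy.2).2 h)
      have h0 : X.presheaf.germ U y hy.2 f = 0 := by
        by_contra h
        obtain ⟨b, hb⟩ := hF.mul_inv_cancel h
        exact hnu (IsUnit.of_mul_eq_one b hb)
      rw [h0, zero_smul]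
    · haveI : Subsingleton (J.presheaf.stalk y) := not_not.1 hs
      exact Subsingleton.elim _ _
  by_contra hne
  have hxV : x ∈ V := ⟨hxV₀, hx⟩
  have hrx : J.presheaf.germ V x hxV r ≠ 0 := by rw [hr]; exact hne
  have hxc : IsClosed ({x} : Set X) := hclosed x hxV hrx
  have hfin := finite_support r hclosed
  let T : Set X := (Subtype.val : V → X) '' {p : V | J.presheaf.germ V p.1 p.2 r ≠ 0} \ {x}
  have hT : IsClosed T := by
    rw [← Set.biUnion_of_singleton T]
    refine ((hfin.image _).subset Set.diff_subset).isClosed_biUnion fun y hy => ?_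
    obtain ⟨⟨p, hp, rfl⟩, -⟩ := hy
    exact hclosed p.1 p.2 hp
  let V' : X.Opens := V ⊓ ⟨_, hT.isOpen_compl⟩
  have hxV' : x ∈ V' := ⟨hxV, fun h => h.2 rfl⟩
  let r' : Γ(J, V') := J.presheaf.map (homOfLE (inf_le_left : V' ≤ V)).op r
  have hr' : ∀ (y : X) (hy : y ∈ V'), y ≠ x → J.presheaf.germ V' y hy r' = 0 := fun y hy hne' => by
    rw [TopCat.Presheaf.germ_res_apply]
    by_contra h
    exact hy.2 ⟨⟨⟨y, hy.1⟩, h, rfl⟩, hne'⟩
  let W : X.Opens := ⟨({x} : Set X)ᶜ, hxc.isOpen_compl⟩
  let O : ULift.{u} Bool → X.Opens := fun b => bif b.down then V' else W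
  let sf : ∀ b, Γ(J, O b)
    | ⟨true⟩ => r'
    | ⟨false⟩ => 0
  have hcompat : TopCat.Presheaf.IsCompatible J.presheaf O sf := by
    intro i j
    refine germ_ext fun y hy => ?_
    rw [TopCat.Presheaf.germ_res_apply, TopCat.Presheaf.germ_res_apply]
    obtain ⟨(_ | _)⟩ := i <;> obtain ⟨(_ | _)⟩ := j
    · rfl
    · exact (map_zero (J.presheaf.germ W y hy.1).hom).trans (hr' y hy.2 hy.1).symm
    · exact (hr' y hy.1 hy.2).trans (map_zero (J.presheaf.germ W y hy.2).hom).symm
    · rfl
  obtain ⟨g, hg, -⟩ := TopCat.Sheaf.existsUnique_gluing ((Groth.L21.Mod.toAbSh X).obj J) O sf hcompat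
  have hle : (⊤ : X.Opens) ≤ iSup O := fun y _ => by
    rcases eq_or_ne y x with rfl | hne'
    · exact Opens.mem_iSup.2 ⟨⟨true⟩, hxV'⟩
    · exact Opens.mem_iSup.2 ⟨⟨false⟩, hne'⟩
  let w : Γ(J, ⊤) := J.presheaf.map (homOfLE hle).op g
  have hwx : J.presheaf.germ ⊤ x trivial w = J.presheaf.germ V x hxV r := by
    rw [TopCat.Presheaf.germ_res_apply, ← TopCat.Presheaf.germ_res_apply J.presheaf (Opens.leSupr O ⟨true⟩) x hxV' g]
    exact (congrArg _ (hg ⟨true⟩)).trans (TopCat.Presheaf.germ_res_apply J.presheaf _ x hxV' r)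
  refine hrx (hwx.symm.trans (section_eq_zero hJc hJp x w fun y hy => ?_))
  rw [TopCat.Presheaf.germ_res_apply,
    ← TopCat.Presheaf.germ_res_apply J.presheaf (Opens.leSupr O ⟨false⟩) y (show y ∈ W from hy) g]
  exact (congrArg _ (hg ⟨false⟩)).trans (map_zero _)

end Groth.L15.PureKill
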